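import Groth.Agent.AttrPtLib.Points
import Mathlib.AlgebraicGeometry.AffineScheme
import Mathlib.RingTheory.PowerSeries.Basic
import Mathlib.RingTheory.PowerSeries.Inverse
import Mathlib.RingTheory.Localization.Away.Basic

/-!
# The affine line over a scheme: charts and infinitesimal neighbourhoods of the zero section
-/

set_option autoImplicit false
set_option linter.style.haveILetI false
universe u

open CategoryTheory CategoryTheory.Limits MonoidalCategory CartesianMonoidalCategory MonObj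
  AlgebraicGeometry Opposite

noncomputable section

namespace AttrPtLib

/-- The natural numbers as a magnet in `ℤ`. -/
abbrev NN : Type := ↥(AddSubmonoid.multiples (1 : ℤ))

/-- Its generator. -/
def gen : NN := ⟨1, AddSubmonoid.mem_multiples 1⟩

theorem exists_nsmul_gen (m : NN) : ∃ n : ℕ, n • gen = m := by
  obtain ⟨n, hn⟩ := m.2
  exact ⟨n, Subtype.ext hn⟩

variable {S : Scheme.{u}}

/-- The affine line. -/
abbrev A1 (S : Scheme.{u}) : Over S := Magnet.AMonS S NN

/-- The coordinate of a point of the affine line. -/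
def tau {T : Over S} (g : T ⟶ A1 S) : Γ(T.left, ⊤) := chi g gen

theorem chi_nsmul {T : Over S} (g : T ⟶ A1 S) : ∀ n : ℕ, chi g (n • gen) = tau g ^ n
  | 0 => by rw [zero_nsmul, chi_zero, pow_zero]
  | n + 1 => by rw [succ_nsmul, chi_add, chi_nsmul g n, pow_succ, tau]

theorem tau_ext {T : Over S} {g h : T ⟶ A1 S} (e : tau g = tau h) : g = h := by
  refine chi_ext fun m => ?_
  obtain ⟨n, rfl⟩ := exists_nsmul_gen m
  rw [chi_nsmul, chi_nsmul, e]

theorem tau_comp {T T' : Over S} (u : T' ⟶ T) (g : T ⟶ A1 S) : tau (u ≫ g) = u.left.appTop (tau g) :=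
  chi_comp u g gen

theorem tau_mul {T : Over S} (g h : T ⟶ A1 S) : tau (g * h) = tau g * tau h := chi_mul g h gen

theorem tau_pow {T : Over S} (g : T ⟶ A1 S) : ∀ n : ℕ, tau (g ^ (n + 1)) = tau g ^ (n + 1)
  | 0 => by rw [zero_add, pow_one, pow_one]
  | n + 1 => by rw [pow_succ, tau_mul, tau_pow g n, ← pow_succ]

theorem exists_tau (T : Over S) (t : Γ(T.left, ⊤)) : ∃ g : T ⟶ A1 S, tau g = t := by
  have hnn : ∀ m : NN, 0 ≤ (m : ℤ) := fun m => by
    obtain ⟨n, hn⟩ := m.2
    rw [← hn]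
    simp
  let c : Multiplicative NN →* Γ(T.left, ⊤) :=
    { toFun := fun m => t ^ ((Multiplicative.toAdd m : NN) : ℤ).toNat
      map_one' := by simp
      map_mul' := fun a b => by
        rw [← pow_add, ← Int.toNat_add (hnn _) (hnn _)]
        rfl }
  obtain ⟨g, hg⟩ := exists_chi T c
  refine ⟨g, ?_⟩
  rw [tau, hg]
  change t ^ ((1 : ℤ)).toNat = t
  simp

/-- The coordinate of the affine line itself. -/
def tauP (Y : Over S) : Γ((A1 S ⊗ Y).left, ⊤) := tau (fst (A1 S) Y)

section Chart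

variable (Y : Over S) {V₀ : Y.left.Opens} (hV : IsAffineOpen V₀)

/-- `Spec Γ(V₀)[t]` as a scheme over `S`. -/
abbrev chartObj : Over S :=
  Over.mk (Spec.map (CommRingCat.ofHom (Polynomial.C (R := Γ(Y.left, V₀)))) ≫ hV.fromSpec ≫ Y.hom)

/-- The coordinate on the chart. -/
def chartVar {V₀ : Y.left.Opens} : Γ(Spec (CommRingCat.of (Polynomial Γ(Y.left, V₀))), ⊤) :=
  (Scheme.ΓSpecIso (CommRingCat.of (Polynomial Γ(Y.left, V₀)))).inv Polynomial.X

/-- The chart `Spec Γ(V₀)[t] ⟶ 𝔸¹ × Y`. -/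
def chart : chartObj Y hV ⟶ A1 S ⊗ Y :=
  lift (exists_tau (chartObj Y hV) (chartVar (V₀ := V₀) Y)).choose
    (Over.homMk (Spec.map (CommRingCat.ofHom (Polynomial.C (R := Γ(Y.left, V₀)))) ≫ hV.fromSpec)
      (Category.assoc _ _ _))

theorem tau_chart : tau (chart Y hV ≫ fst _ _) = chartVar Y := by
  rw [chart, lift_fst]
  exact (exists_tau (chartObj Y hV) (chartVar (V₀ := V₀) Y)).choose_spec

theorem chart_snd : (chart Y hV).left ≫ (snd (A1 S) Y).left =
    Spec.map (CommRingCat.ofHom (Polynomial.C (R := Γ(Y.left, V₀)))) ≫ hV.fromSpec := by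
  rw [← Over.comp_left, chart, lift_snd]
  rfl

theorem toSpec_spec {W : Scheme.{u}} {B : CommRingCat.{u}} (f : W ⟶ Spec B) :
    W.toSpecΓ ≫ Spec.map ((Scheme.ΓSpecIso B).inv ≫ f.appTop) = f := by
  rw [Spec.map_comp, ← Category.assoc, ← Scheme.toSpecΓ_naturality f, Category.assoc,
    toSpecΓ_SpecMap_ΓSpecIso_inv, Category.comp_id]

theorem appTop_toSpec {W : Scheme.{u}} {B : CommRingCat.{u}} (φ : B ⟶ Γ(W, ⊤)) :
    (Scheme.ΓSpecIso B).inv ≫ (W.toSpecΓ ≫ Spec.map φ).appTop = φ := by
  rw [Scheme.Hom.comp_appTop, ← Scheme.ΓSpecIso_inv_naturality_assoc, Scheme.toSpecΓ_appTop,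
    Iso.inv_hom_id, Category.comp_id]

theorem isPullback_chart :
    IsPullback (chart Y hV).left (Spec.map (CommRingCat.ofHom (Polynomial.C (R := Γ(Y.left, V₀)))))
      (snd (A1 S) Y).left hV.fromSpec := by
  let C' := CommRingCat.ofHom (Polynomial.C (R := Γ(Y.left, V₀)))
  refine IsPullback.mk' (chart_snd Y hV) ?_ ?_
  · intro W φ φ' h1 h2
    have hφ := toSpec_spec φ
    have hφ' := toSpec_spec φ'
    rw [← hφ, ← hφ']
    congr 2
    refine CommRingCat.hom_ext (Polynomial.ringHom_ext (fun b => ?_) ?_)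
    · have e : ∀ ψ : W ⟶ (chartObj Y hV).left,
          (Scheme.ΓSpecIso Γ(Y.left, V₀)).inv ≫ (ψ ≫ Spec.map C').appTop =
            C' ≫ (Scheme.ΓSpecIso (CommRingCat.of (Polynomial Γ(Y.left, V₀)))).inv ≫ ψ.appTop := fun ψ => by
        rw [Scheme.Hom.comp_appTop, ← Scheme.ΓSpecIso_inv_naturality_assoc]
      exact DFunLike.congr_fun (congrArg CommRingCat.Hom.hom
        (((e φ).symm.trans (by rw [h2])).trans (e φ'))) b
    · change φ.appTop (chartVar Y) = φ'.appTop (chartVar Y)
      let T : Over S := Over.mk (φ ≫ (chartObj Y hV).hom)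
      let u : T ⟶ chartObj Y hV := Over.homMk φ rfl
      let u' : T ⟶ chartObj Y hV := Over.homMk φ' (by
        change φ' ≫ Spec.map _ ≫ _ = φ ≫ Spec.map _ ≫ _
        rw [← Category.assoc φ', ← Category.assoc φ, h2])
      have hu : u ≫ chart Y hV = u' ≫ chart Y hV := Over.OverMorphism.ext h1
      have e1 := tau_comp u (chart Y hV ≫ fst _ _)
      have e2 := tau_comp u' (chart Y hV ≫ fst _ _)
      rw [← Category.assoc, hu, Category.assoc, e2, tau_chart] at e1
      exact e1.symm
  · intro W a b w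
    let T : Over S := Over.mk (a ≫ (A1 S ⊗ Y).hom)
    let â : T ⟶ A1 S ⊗ Y := Over.homMk a rfl
    let β : Γ(Y.left, V₀) →+* Γ(W, ⊤) := ((Scheme.ΓSpecIso Γ(Y.left, V₀)).inv ≫ b.appTop).hom
    let ψ : Polynomial Γ(Y.left, V₀) →+* Γ(W, ⊤) := Polynomial.eval₂RingHom β (tau (â ≫ fst _ _))
    let l : W ⟶ Spec (CommRingCat.of (Polynomial Γ(Y.left, V₀))) := W.toSpecΓ ≫ Spec.map (CommRingCat.ofHom ψ)
    have hl : l ≫ Spec.map C' = b := by
      refine (Category.assoc _ _ _).trans ?_
      rw [← Spec.map_comp]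
      refine Eq.trans ?_ (toSpec_spec b)
      congr 2
      refine CommRingCat.hom_ext (RingHom.ext fun x => ?_)
      exact Polynomial.eval₂_C β _
    have hw : l ≫ (chartObj Y hV).hom = T.hom := by
      change l ≫ Spec.map C' ≫ hV.fromSpec ≫ Y.hom = a ≫ (A1 S ⊗ Y).hom
      rw [← Category.assoc, hl, ← Category.assoc, ← w, Category.assoc, Over.w]
    let L : T ⟶ chartObj Y hV := Over.homMk l hw
    refine ⟨l, ?_, hl⟩
    have hL : L ≫ chart Y hV = â := by
      apply CartesianMonoidalCategory.hom_ext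
      · apply tau_ext
        rw [Category.assoc, tau_comp, tau_chart]
        change ((Scheme.ΓSpecIso _).inv ≫ l.appTop) Polynomial.X = _
        rw [appTop_toSpec]
        exact Polynomial.eval₂_X β _
      · refine Over.OverMorphism.ext ?_
        rw [Category.assoc, Over.comp_left, Over.comp_left, chart_snd, ← Category.assoc]
        refine (congrArg (· ≫ hV.fromSpec) hl).trans (w.symm.trans ?_)
        rw [Over.comp_left]
        rfl
    exact congrArg CommaMorphism.left hL

theorem isOpenImmersion_chart : IsOpenImmersion (chart Y hV).left :=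
  MorphismProperty.of_isPullback (isPullback_chart Y hV).flip inferInstance

end Chart

end AttrPtLib
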