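import Groth.Agent.AttrPtLib.Local
import Mathlib.AlgebraicGeometry.Morphisms.Flat
import Mathlib.FieldTheory.RatFunc.Basic

/-!
# Equivariant morphisms out of `𝔸¹ × Y` are determined near the zero section
-/

set_option autoImplicit false
set_option linter.style.haveILetI false
universe u

open CategoryTheory CategoryTheory.Limits MonoidalCategory CartesianMonoidalCategory MonObj
  AlgebraicGeometry Opposite

noncomputable section

namespace AttrPtLib

variable {k : Type u} [Field k]

/-- The base. -/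
abbrev Sk (k : Type u) [Field k] : Scheme.{u} := Spec (CommRingCat.of k)

/-- The multiplicative group. -/
abbrev G1 (k : Type u) [Field k] : Over (Sk k) := Red.DS (Sk k) ℤ

theorem flat_G1_hom : Flat (G1 k).hom := by
  have h : Flat (Spec.map (CommRingCat.ofHom (algebraMap Z.{u} (RM.{u} ℤ)))) := by
    rw [HasRingHomProperty.Spec_iff (P := @Flat)]
    exact RingHom.flat_algebraMap_iff.2 inferInstance
  exact MorphismProperty.pullback_snd _ _ h

variable {Y : Over (Sk k)}

/-- The scaling action on the first factor. -/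
def scale (Y : Over (Sk k)) : G1 k ⊗ (A1 (Sk k) ⊗ Y) ⟶ A1 (Sk k) ⊗ Y :=
  ((Magnet.subAct (Sk k) ℤ (AddSubmonoid.multiples (1 : ℤ))).prod
    (Magnet.MonAct.trivial (Magnet.AMonS (Sk k) ℤ) Y)).act

theorem lift_scale {T : Over (Sk k)} (g : T ⟶ G1 k) (s : T ⟶ A1 (Sk k)) (y : T ⟶ Y) :
    lift g (lift s y) ≫ scale Y =
      lift ((show T ⟶ Magnet.AMonS (Sk k) ℤ from g) ≫
        Magnet.AMonS.map (Sk k) (AddSubmonoid.multiples (1 : ℤ)).subtype * s) y := by
  rw [scale]
  refine (Magnet.MonAct.lift_prod_act _ _ (T := T) g s y).trans ?_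
  rw [Magnet.subAct, Magnet.MonAct.lift_restrict_act, Magnet.MonAct.lift_regular_act,
    Magnet.MonAct.lift_trivial_act]

theorem flat_scale_left : Flat (scale Y).left := by
  let P := A1 (Sk k) ⊗ Y
  let σ : G1 k ⊗ P ⟶ G1 k ⊗ P := lift (fst _ _) (scale Y)
  let τ : G1 k ⊗ P ⟶ G1 k ⊗ P := lift (fst _ _) (lift (fst _ _)⁻¹ (snd _ _) ≫ scale Y)
  let M : Magnet.MonAct (G1 k) P := ((Magnet.subAct (Sk k) ℤ (AddSubmonoid.multiples (1 : ℤ))).prod
    (Magnet.MonAct.trivial (Magnet.AMonS (Sk k) ℤ) Y))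
  have hM : ∀ {T : Over (Sk k)} (g h : T ⟶ G1 k) (x : T ⟶ P),
      lift g (lift h x ≫ scale Y) ≫ scale Y = lift (g * h) x ≫ scale Y := fun g h x =>
    (M.lift_mul_act g h x).symm
  have hs : lift (fst (G1 k) P) (snd _ _) ≫ scale Y = scale Y := by
    rw [lift_fst_snd, Category.id_comp]
  have h1 : σ ≫ τ = 𝟙 _ := by
    apply CartesianMonoidalCategory.hom_ext
    · simp [σ, τ]
    · rw [Category.id_comp, Category.assoc, lift_snd, ← Category.assoc, comp_lift, GrpObj.comp_inv]
      simp only [σ, lift_fst, lift_snd]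
      refine (congrArg (fun t => lift (fst (G1 k) P)⁻¹ t ≫ scale Y) hs.symm).trans ((hM _ _ _).trans ?_)
      rw [inv_mul_cancel]
      exact M.lift_one_act _
  have h2 : τ ≫ σ = 𝟙 _ := by
    apply CartesianMonoidalCategory.hom_ext
    · simp [σ, τ]
    · rw [Category.id_comp, Category.assoc, lift_snd]
      refine (congrArg (τ ≫ ·) hs.symm).trans ?_
      rw [← Category.assoc τ, comp_lift]
      simp only [τ, lift_fst, lift_snd]
      rw [hM, mul_inv_cancel]
      exact M.lift_one_act _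
  haveI : IsIso σ := ⟨τ, h1, h2⟩
  haveI : IsIso σ.left := inferInstanceAs (IsIso ((Over.forget _).map σ))
  have hsn : σ ≫ snd _ _ = scale Y := lift_snd _ _
  rw [← hsn, Over.comp_left]
  haveI : Flat (G1 k).hom := flat_G1_hom
  haveI : Flat (snd (G1 k) P).left := inferInstanceAs (Flat (pullback.snd (G1 k).hom P.hom))
  infer_instance

/-- Two equivariant morphisms agreeing at nilpotent points are equal. -/
theorem eq_of_forall_nilpotent {X : Over (Sk k)} (M : Magnet.MonAct (G1 k) X)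
    (γ₁ γ₂ : A1 (Sk k) ⊗ Y ⟶ X)
    (he₁ : scale Y ≫ γ₁ = (G1 k ◁ γ₁) ≫ M.act) (he₂ : scale Y ≫ γ₂ = (G1 k ◁ γ₂) ≫ M.act)
    (h : ∀ (T : Over (Sk k)) (e : T ⟶ A1 (Sk k) ⊗ Y), (∃ n : ℕ, tau (e ≫ fst _ _) ^ (n + 1) = 0) →
      e ≫ γ₁ = e ≫ γ₂) : γ₁ = γ₂ := by
  let P := A1 (Sk k) ⊗ Y
  let Ω : P.left.Opens := sSup {O | O.ι ≫ γ₁.left = O.ι ≫ γ₂.left}
  have hΩ : Ω.ι ≫ γ₁.left = Ω.ι ≫ γ₂.left := by
    refine Scheme.hom_ext_of_forall _ _ fun x => ?_
    obtain ⟨O, hO, hxO⟩ := TopologicalSpace.Opens.mem_sSup.mp x.2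
    refine ⟨Ω.ι ⁻¹ᵁ O, hxO, ?_⟩
    rw [← Category.assoc, ← Category.assoc, ← morphismRestrict_ι, Category.assoc, Category.assoc]
    exact congrArg ((Ω.ι ∣_ O) ≫ ·) hO
  have hzero : ∀ y : Y.left, (zeroSec Y).left y ∈ Ω := fun y => by
    obtain ⟨O, hy, hO⟩ := exists_open_eq γ₁ γ₂ h y
    exact TopologicalSpace.Opens.mem_sSup.mpr ⟨O, hO, hy⟩
  let ΩO : Over (Sk k) := Over.mk (Ω.ι ≫ P.hom)
  let ω : ΩO ⟶ P := Over.homMk Ω.ι rfl
  let act : G1 k ⊗ ΩO ⟶ P := (G1 k ◁ ω) ≫ scale Y
  have hω : ω ≫ γ₁ = ω ≫ γ₂ := Over.OverMorphism.ext hΩ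
  have hact : act ≫ γ₁ = act ≫ γ₂ := by
    simp only [act, Category.assoc, he₁, he₂]
    rw [← MonoidalCategory.whiskerLeft_comp_assoc, hω, MonoidalCategory.whiskerLeft_comp_assoc]
  haveI : Flat act.left := by
    haveI : Flat (scale Y).left := flat_scale_left
    haveI : IsOpenImmersion ω.left := inferInstanceAs (IsOpenImmersion Ω.ι)
    haveI : IsOpenImmersion (G1 k ◁ ω).left := by rw [Over.whiskerLeft_left]; infer_instance
    rw [Over.comp_left]
    infer_instance
  haveI : Surjective act.left := by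
    refine ⟨fun p => ?_⟩
    let κ : CommRingCat.{u} := P.left.residueField p
    let T₀ : Over (Sk k) := Over.mk (P.left.fromSpecResidueField p ≫ P.hom)
    let e₀ : T₀ ⟶ P := Over.homMk (P.left.fromSpecResidueField p) rfl
    obtain ⟨c₀, hc₀⟩ : ∃ c : κ, (Scheme.ΓSpecIso κ).inv c = tau (e₀ ≫ fst _ _) :=
      ⟨(Scheme.ΓSpecIso κ).hom (tau (e₀ ≫ fst _ _)), by
        rw [← CommRingCat.comp_apply, Iso.hom_inv_id, CommRingCat.id_apply]⟩
    have hp : ∀ x : T₀.left, e₀.left x = p := fun x => by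
      have := Scheme.range_fromSpecResidueField p
      exact Set.mem_singleton_iff.mp (this.subset ⟨x, rfl⟩)
    have hmem : ∀ {T : Over (Sk k)} (e : T ⟶ P), Set.range e.left ⊆ Ω → ∃ w : T ⟶ ΩO, w ≫ ω = e := by
      intro T e he
      have hr : Set.range e.left ⊆ Set.range Ω.ι := by rwa [Scheme.Opens.range_ι]
      exact ⟨Over.homMk (IsOpenImmersion.lift Ω.ι e.left hr)
        (by change IsOpenImmersion.lift Ω.ι e.left hr ≫ Ω.ι ≫ P.hom = _
            rw [← Category.assoc, IsOpenImmersion.lift_fac, Over.w]),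
        Over.OverMorphism.ext (IsOpenImmersion.lift_fac _ _ _)⟩
    by_cases hc : c₀ = 0
    · have he : e₀ = (e₀ ≫ snd _ _) ≫ zeroSec Y := by
        apply CartesianMonoidalCategory.hom_ext
        · apply tau_ext
          rw [← hc₀, hc, map_zero, Category.assoc, zeroSec, lift_fst, tau_comp, tau_zeroPt, map_zero]
        · simp [zeroSec]
      obtain ⟨w, hw⟩ := hmem e₀ (by
        rintro _ ⟨x, rfl⟩
        rw [he, Over.comp_left, Scheme.Hom.comp_apply]
        exact hzero _)
      refine ⟨(lift (1 : T₀ ⟶ G1 k) w).left (IsLocalRing.closedPoint _), ?_⟩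
      have hh : lift (1 : T₀ ⟶ G1 k) w ≫ act = e₀ := by
        rw [lift_whiskerLeft_assoc, hw]
        exact Magnet.MonAct.lift_one_act _ e₀
      rw [← Scheme.Hom.comp_apply, ← Over.comp_left, hh]
      exact hp _
    · let R : CommRingCat.{u} := CommRingCat.of (Polynomial κ)
      let L : CommRingCat.{u} := CommRingCat.of (RatFunc κ)
      let π : Spec R ⟶ T₀.left := Spec.map (CommRingCat.ofHom (Polynomial.C (R := κ)))
      let T₁ : Over (Sk k) := Over.mk (π ≫ T₀.hom)
      let r₁ : T₁ ⟶ T₀ := Over.homMk π rfl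
      obtain ⟨s₁, hs₁⟩ := exists_tau T₁ ((Scheme.ΓSpecIso R).inv Polynomial.X)
      let e₁ : T₁ ⟶ P := lift s₁ (r₁ ≫ e₀ ≫ snd _ _)
      let ev : R ⟶ κ := CommRingCat.ofHom (Polynomial.evalRingHom (0 : κ))
      have hev : Spec.map ev ≫ π = 𝟙 _ := by
        refine (Spec.map_comp _ _).symm.trans (Eq.trans ?_ (Spec.map_id κ))
        congr 1
        exact CommRingCat.hom_ext (RingHom.ext fun b => Polynomial.eval_C)
      let r₀ : T₀ ⟶ T₁ := Over.homMk (Spec.map ev) (by
        change Spec.map ev ≫ π ≫ T₀.hom = T₀.hom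
        rw [← Category.assoc, hev]
        exact Category.id_comp _)
      have hr : r₀ ≫ r₁ = 𝟙 T₀ := Over.OverMorphism.ext hev
      have he : r₀ ≫ e₁ = (e₀ ≫ snd _ _) ≫ zeroSec Y := by
        apply CartesianMonoidalCategory.hom_ext
        · apply tau_ext
          rw [Category.assoc, lift_fst, tau_comp, hs₁, Category.assoc, zeroSec, lift_fst, tau_comp,
            tau_zeroPt, map_zero]
          change ((Scheme.ΓSpecIso R).inv ≫ (Spec.map ev).appTop) Polynomial.X = 0
          rw [← Scheme.ΓSpecIso_inv_naturality]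
          change (Scheme.ΓSpecIso κ).inv (Polynomial.eval (0 : κ) Polynomial.X) = 0
          rw [Polynomial.eval_X, map_zero]
        · rw [Category.assoc, lift_snd, reassoc_of% hr, zeroSec, Category.assoc, lift_snd, Category.comp_id]
      let ηmap : R ⟶ L := CommRingCat.ofHom (algebraMap (Polynomial κ) (RatFunc κ))
      let T₂ : Over (Sk k) := Over.mk (Spec.map ηmap ≫ T₁.hom)
      let r₂ : T₂ ⟶ T₁ := Over.homMk (Spec.map ηmap) rfl
      obtain ⟨w, hw⟩ := hmem (r₂ ≫ e₁) (by
        rintro _ ⟨x, rfl⟩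
        let m : Spec R := (Spec.map ev) (IsLocalRing.closedPoint κ)
        have hm : e₁.left m ∈ Ω := by
          rw [show e₁.left m = ((r₀ ≫ e₁).left) (IsLocalRing.closedPoint κ) from rfl, he, Over.comp_left,
            Scheme.Hom.comp_apply]
          exact hzero _
        have hsp : (Spec.map ηmap) x ⤳ m := (PrimeSpectrum.le_iff_specializes _ _).mp fun z hz => by
          have hx0 : x.asIdeal = ⊥ := (Ideal.eq_bot_or_top x.asIdeal).resolve_right x.isPrime.ne_top
          change ηmap.hom z ∈ x.asIdeal at hz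
          rw [hx0, Ideal.mem_bot] at hz
          have : z = 0 := (RatFunc.algebraMap_injective κ) (hz.trans (map_zero _).symm)
          rw [this]; exact Ideal.zero_mem _
        exact (hsp.map e₁.left.continuous).mem_open Ω.2 hm)
      -- the scalar
      let X' : RatFunc κ := algebraMap (Polynomial κ) (RatFunc κ) Polynomial.X
      let cL : RatFunc κ := algebraMap (Polynomial κ) (RatFunc κ) (Polynomial.C c₀)
      have hne : cL / X' ≠ 0 := div_ne_zero
        (by simpa [cL] using (map_ne_zero_iff _ (RatFunc.algebraMap_injective κ)).mpr (Polynomial.C_ne_zero.mpr hc))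
        ((map_ne_zero_iff _ (RatFunc.algebraMap_injective κ)).mpr Polynomial.X_ne_zero)
      let iL := (Scheme.ΓSpecIso L).inv.hom
      let u : (Γ(T₂.left, ⊤))ˣ := Units.map iL.toMonoidHom (Units.mk0 _ hne)
      obtain ⟨g, hg⟩ := exists_chi (M := ℤ) T₂ ((Units.coeHom _).comp (zpowersHom _ u))
      have hg1 : chi g (1 : ℤ) = iL (cL / X') := by
        rw [hg, MonoidHom.comp_apply, zpowersHom_apply]
        simp [u]
      have hh : lift (show T₂ ⟶ G1 k from g) w ≫ act = r₂ ≫ r₁ ≫ e₀ := by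
        rw [lift_whiskerLeft_assoc, hw, comp_lift, lift_scale]
        apply CartesianMonoidalCategory.hom_ext
        · rw [lift_fst]
          apply tau_ext
          rw [tau_mul, tau, chi_map]
          change chi g (1 : ℤ) * tau (r₂ ≫ s₁) = _
          rw [hg1, tau_comp, hs₁, Category.assoc, Category.assoc, tau_comp, tau_comp, ← hc₀]
          change _ * ((Scheme.ΓSpecIso R).inv ≫ (Spec.map ηmap).appTop) Polynomial.X =
            (Spec.map ηmap).appTop (((Scheme.ΓSpecIso κ).inv ≫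
              (Spec.map (CommRingCat.ofHom (Polynomial.C (R := κ)))).appTop) c₀)
          rw [← Scheme.ΓSpecIso_inv_naturality, ← Scheme.ΓSpecIso_inv_naturality]
          change iL (cL / X') * iL X' =
            ((Scheme.ΓSpecIso R).inv ≫ (Spec.map ηmap).appTop) (Polynomial.C c₀)
          rw [← map_mul, div_mul_cancel₀ _
            ((map_ne_zero_iff _ (RatFunc.algebraMap_injective κ)).mpr Polynomial.X_ne_zero),
            ← Scheme.ΓSpecIso_inv_naturality]
          rfl
        · simp [e₁, P]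
      haveI : Nonempty T₂.left := ⟨(IsLocalRing.closedPoint (RatFunc κ) : Spec L)⟩
      let x : T₂.left := Classical.arbitrary _
      refine ⟨(lift (show T₂ ⟶ G1 k from g) w).left x, ?_⟩
      rw [← Scheme.Hom.comp_apply, ← Over.comp_left, hh, Over.comp_left, Over.comp_left,
        Scheme.Hom.comp_apply, Scheme.Hom.comp_apply]
      exact hp _
  haveI : Epi act.left := Flat.epi_of_flat_of_surjective _
  haveI : Epi act := Over.epi_of_epi_left act
  exact (cancel_epi act).mp hact

end AttrPtLib
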