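import Groth.Agent.AttrPtLib.Chart

/-!
# Morphisms out of `𝔸¹ × Y` agreeing on all infinitesimal neighbourhoods of the zero section
-/

set_option autoImplicit false
set_option linter.style.haveILetI false
universe u

open CategoryTheory CategoryTheory.Limits MonoidalCategory CartesianMonoidalCategory MonObj
  AlgebraicGeometry Opposite

noncomputable section

namespace AttrPtLib

/-- The ring of functions near the zero section embeds into power series. -/
theorem exists_powerSeries {B : Type u} [CommRing B] (g : Polynomial B) :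
    ∃ (L : Type u) (_ : CommRing L)
      (π : Localization.Away (g * Polynomial.C (g.coeff 0)) →+* PowerSeries L),
      π (algebraMap (Polynomial B) _ Polynomial.X) = PowerSeries.X ∧ Function.Injective π := by
  let g₀ := g.coeff 0
  let L := Localization.Away g₀
  let J : Polynomial B →+* PowerSeries L :=
    Polynomial.coeToPowerSeries.ringHom.comp (Polynomial.mapRingHom (algebraMap B L))
  have hJ : ∀ p : Polynomial B, ∀ i, PowerSeries.coeff i (J p) = algebraMap B L (p.coeff i) := fun p i => by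
    simp [J, Polynomial.coeff_coe]
  have hu : IsUnit (J (g * Polynomial.C g₀)) := by
    rw [PowerSeries.isUnit_iff_constantCoeff, ← PowerSeries.coeff_zero_eq_constantCoeff_apply, hJ,
      Polynomial.mul_coeff_zero, Polynomial.coeff_C_zero, map_mul]
    exact (IsLocalization.Away.algebraMap_isUnit g₀).mul (IsLocalization.Away.algebraMap_isUnit g₀)
  let R1 := Localization.Away (g * Polynomial.C g₀)
  let π : R1 →+* PowerSeries L := IsLocalization.Away.lift (g * Polynomial.C g₀) hu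
  have hπ : ∀ p, π (algebraMap _ R1 p) = J p := IsLocalization.Away.lift_eq _ hu
  refine ⟨L, inferInstance, π, ?_, (injective_iff_map_eq_zero π).mpr fun x hx => ?_⟩
  · refine (hπ _).trans (PowerSeries.ext fun i => ?_)
    rw [hJ, Polynomial.coeff_X, PowerSeries.coeff_X]
    split_ifs <;> simp_all
  obtain ⟨m, p, hp⟩ := IsLocalization.Away.surj (g * Polynomial.C g₀) x
  have hp0 : J p = 0 := by rw [← hπ, ← hp, map_mul, hx, zero_mul]
  have hall : ∀ i, ∃ N : ℕ, g₀ ^ N * p.coeff i = 0 := fun i => by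
    have h : algebraMap B L (p.coeff i) = 0 := by rw [← hJ, hp0, map_zero]
    obtain ⟨⟨_, N, rfl⟩, hN⟩ := (IsLocalization.map_eq_zero_iff (Submonoid.powers g₀) L _).mp h
    exact ⟨N, hN⟩
  choose N hN using hall
  let N₀ := p.support.sup N
  have hz : Polynomial.C g₀ ^ N₀ * p = 0 := by
    refine Polynomial.ext fun i => ?_
    rw [← map_pow, Polynomial.coeff_C_mul, Polynomial.coeff_zero]
    by_cases hi : i ∈ p.support
    · obtain ⟨d, hd⟩ := Nat.exists_eq_add_of_le (Finset.le_sup (f := N) hi)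
      rw [show N₀ = d + N i by rw [add_comm]; exact hd, pow_add, _root_.mul_assoc, hN, mul_zero]
    · rw [Polynomial.notMem_support_iff.mp hi, mul_zero]
  have hgu : IsUnit (algebraMap (Polynomial B) R1 g * algebraMap _ R1 (Polynomial.C g₀)) := by
    rw [← map_mul]; exact IsLocalization.Away.algebraMap_isUnit _
  have hpz : algebraMap (Polynomial B) R1 p = 0 := by
    have h := congrArg (algebraMap (Polynomial B) R1) hz
    rw [map_mul, map_pow, map_zero] at h
    exact ((isUnit_of_mul_isUnit_right hgu).pow N₀).mul_right_eq_zero.mp h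
  rw [hpz] at hp
  exact ((IsLocalization.Away.algebraMap_isUnit (g * Polynomial.C g₀)).pow m).mul_left_eq_zero.mp hp

variable {S : Scheme.{u}} {X Y : Over S}

/-- The zero section. -/
def zeroPt (Y : Over S) : Y ⟶ A1 S := (exists_tau Y 0).choose

theorem tau_zeroPt : tau (zeroPt Y) = 0 := (exists_tau Y 0).choose_spec

/-- The zero section of `𝔸¹ × Y ⟶ Y`. -/
def zeroSec (Y : Over S) : Y ⟶ A1 S ⊗ Y := lift (zeroPt Y) (𝟙 Y)

/-- Morphisms agreeing at nilpotent points agree near the zero section. -/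
theorem exists_open_eq (γ₁ γ₂ : A1 S ⊗ Y ⟶ X)
    (h : ∀ (T : Over S) (e : T ⟶ A1 S ⊗ Y), (∃ n : ℕ, tau (e ≫ fst _ _) ^ (n + 1) = 0) →
      e ≫ γ₁ = e ≫ γ₂) (y : Y.left) :
    ∃ O : (A1 S ⊗ Y).left.Opens, (zeroSec Y).left y ∈ O ∧ O.ι ≫ γ₁.left = O.ι ≫ γ₂.left := by
  have h0 : zeroSec Y ≫ γ₁ = zeroSec Y ≫ γ₂ := h Y _ ⟨0, by rw [zeroSec, lift_fst, tau_zeroPt]; simp⟩
  obtain ⟨V₀, hV, hy, -⟩ := exists_isAffineOpen_mem_and_subset (x := y) (U := ⊤) trivial
  let B : CommRingCat.{u} := Γ(Y.left, V₀)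
  let P : CommRingCat.{u} := CommRingCat.of (Polynomial B)
  let c : Spec P ⟶ (A1 S ⊗ Y).left := (chart Y hV).left
  haveI : IsOpenImmersion c := isOpenImmersion_chart Y hV
  let ev : P ⟶ B := CommRingCat.ofHom (Polynomial.evalRingHom (0 : B))
  let s₀ : Spec B ⟶ Spec P := Spec.map ev
  have hs : s₀ ≫ c = hV.fromSpec ≫ (zeroSec Y).left := by
    let TB : Over S := Over.mk (hV.fromSpec ≫ Y.hom)
    let w : TB ⟶ Y := Over.homMk hV.fromSpec rfl
    have he : s₀ ≫ Spec.map (CommRingCat.ofHom (Polynomial.C (R := B))) = 𝟙 _ := by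
      rw [← Spec.map_comp, ← Spec.map_id]
      congr 1
      exact CommRingCat.hom_ext (RingHom.ext fun b => Polynomial.eval_C)
    let w' : TB ⟶ chartObj Y hV := Over.homMk s₀ (by
      change s₀ ≫ Spec.map (CommRingCat.ofHom (Polynomial.C (R := B))) ≫ _ = _
      rw [← Category.assoc, he, Category.id_comp]
      rfl)
    have key : w' ≫ chart Y hV = w ≫ zeroSec Y := by
      apply CartesianMonoidalCategory.hom_ext
      · apply tau_ext
        rw [Category.assoc, tau_comp, tau_chart, Category.assoc, zeroSec, lift_fst, tau_comp, tau_zeroPt,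
          map_zero]
        change ((Scheme.ΓSpecIso P).inv ≫ (Spec.map ev).appTop) Polynomial.X = 0
        rw [← Scheme.ΓSpecIso_inv_naturality]
        change (Scheme.ΓSpecIso B).inv (Polynomial.eval (0 : B) Polynomial.X) = 0
        rw [Polynomial.eval_X, map_zero]
      · refine Over.OverMorphism.ext ?_
        rw [Category.assoc, Over.comp_left, Over.comp_left, chart_snd, zeroSec, Category.assoc, lift_snd,
          Category.comp_id]
        refine (Category.assoc _ _ _).symm.trans ?_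
        change (s₀ ≫ Spec.map (CommRingCat.ofHom (Polynomial.C (R := B)))) ≫ hV.fromSpec = hV.fromSpec
        rw [he, Category.id_comp]
    exact congrArg CommaMorphism.left key
  obtain ⟨yB, hyB⟩ : y ∈ Set.range hV.fromSpec := by rw [hV.range_fromSpec]; exact hy
  let p₁ : Spec P := s₀ yB
  have hp₁ : c p₁ = (zeroSec Y).left y := by
    rw [← Scheme.Hom.comp_apply, hs, Scheme.Hom.comp_apply, hyB]
  obtain ⟨W₁, hW₁, hxW₁, -⟩ :=
    exists_isAffineOpen_mem_and_subset (x := γ₁.left (c p₁)) (U := ⊤) trivial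
  have hγ : γ₂.left (c p₁) = γ₁.left (c p₁) := by
    rw [hp₁, ← Scheme.Hom.comp_apply, ← Scheme.Hom.comp_apply, ← Over.comp_left, ← Over.comp_left, h0]
  let U : (Spec P).Opens := (c ≫ γ₁.left) ⁻¹ᵁ W₁ ⊓ (c ≫ γ₂.left) ⁻¹ᵁ W₁
  have hpU : p₁ ∈ U := ⟨hxW₁, by change γ₂.left (c p₁) ∈ W₁; rw [hγ]; exact hxW₁⟩
  obtain ⟨_, ⟨g, rfl⟩, hgp, hgU⟩ :=
    TopologicalSpace.Opens.isBasis_iff_nbhd.mp PrimeSpectrum.isBasis_basic_opens hpU
  let g' : Polynomial B := g * Polynomial.C (g.coeff 0)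
  have hg' : p₁ ∈ PrimeSpectrum.basicOpen g' := by
    change g * Polynomial.C (g.coeff 0) ∉ Ideal.comap ev.hom yB.asIdeal
    have hg0 : ev.hom g ∉ yB.asIdeal := hgp
    rw [Ideal.mem_comap, map_mul]
    have e : ev.hom g = g.coeff 0 := (Polynomial.coeff_zero_eq_eval_zero g).symm
    have e' : ev.hom (Polynomial.C (g.coeff 0)) = g.coeff 0 := Polynomial.eval_C
    rw [e] at hg0
    rw [e, e']
    exact fun hm => (yB.isPrime.mem_or_mem hm).elim hg0 hg0
  let R1 : CommRingCat.{u} := CommRingCat.of (Localization.Away g')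
  let j₀ : Spec R1 ⟶ Spec P := Spec.map (CommRingCat.ofHom (algebraMap (Polynomial B) R1))
  haveI : IsOpenImmersion j₀ := IsOpenImmersion.of_isLocalization (S := R1) g'
  have hj₀ : Set.range j₀ = (PrimeSpectrum.basicOpen g' : Set (PrimeSpectrum (Polynomial B))) :=
    PrimeSpectrum.localization_away_comap_range _ g'
  let j := j₀ ≫ c
  have hjU : ∀ x, j₀ x ∈ U := fun x => by
    apply hgU
    have hx : j₀ x ∈ PrimeSpectrum.basicOpen g' := (Set.ext_iff.mp hj₀ (j₀ x)).mp ⟨x, rfl⟩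
    exact PrimeSpectrum.basicOpen_mul_le_left g _ hx
  have hfac : ∀ γ : A1 S ⊗ Y ⟶ X, (∀ x, c (j₀ x) ∈ γ.left ⁻¹ᵁ W₁) →
      ∃ ψ : Γ(X.left, W₁) ⟶ R1, j ≫ γ.left = Spec.map ψ ≫ hW₁.fromSpec := by
    intro γ hγm
    have hr : Set.range (j ≫ γ.left) ⊆ Set.range hW₁.fromSpec := by
      rw [hW₁.range_fromSpec]
      rintro _ ⟨x, rfl⟩
      exact hγm x
    exact ⟨Spec.preimage (IsOpenImmersion.lift hW₁.fromSpec _ hr), by
      rw [Spec.map_preimage, IsOpenImmersion.lift_fac]⟩
  obtain ⟨ψ₁, hψ₁⟩ := hfac γ₁ fun x => (hjU x).1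
  obtain ⟨ψ₂, hψ₂⟩ := hfac γ₂ fun x => (hjU x).2
  obtain ⟨L, _, π, hπX, hπinj⟩ := exists_powerSeries g
  have hψ : ψ₁ = ψ₂ := by
    refine CommRingCat.hom_ext (RingHom.ext fun r => hπinj (PowerSeries.ext fun n => ?_))
    let Q : CommRingCat.{u} := CommRingCat.of (PowerSeries L ⧸ Ideal.span {(PowerSeries.X : PowerSeries L) ^ (n + 1)})
    let κ : R1 ⟶ Q := CommRingCat.ofHom ((Ideal.Quotient.mk _).comp π)
    let T : Over S := Over.mk (Spec.map κ ≫ j ≫ (A1 S ⊗ Y).hom)
    let e : T ⟶ A1 S ⊗ Y := Over.homMk (Spec.map κ ≫ j) (Category.assoc _ _ _)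
    let e' : T ⟶ chartObj Y hV := Over.homMk (Spec.map κ ≫ j₀) (by
      change (Spec.map κ ≫ j₀) ≫ (chartObj Y hV).hom = Spec.map κ ≫ (j₀ ≫ c) ≫ (A1 S ⊗ Y).hom
      simp only [Category.assoc]
      congr 2
      exact (Over.w (chart Y hV)).symm)
    have hee : e' ≫ chart Y hV = e := Over.OverMorphism.ext (Category.assoc _ _ _)
    have hnil : tau (e ≫ fst _ _) ^ (n + 1) = 0 := by
      rw [← hee, Category.assoc, tau_comp, tau_chart, ← map_pow]
      change (Spec.map κ ≫ j₀).appTop (((Scheme.ΓSpecIso P).inv Polynomial.X) ^ (n + 1)) = 0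
      rw [← map_pow, ← Spec.map_comp]
      change ((Scheme.ΓSpecIso P).inv ≫ (Spec.map _).appTop) _ = 0
      rw [← Scheme.ΓSpecIso_inv_naturality]
      change (Scheme.ΓSpecIso Q).inv (Ideal.Quotient.mk _ (π (algebraMap (Polynomial B) R1 (Polynomial.X ^ (n + 1))))) = 0
      rw [map_pow (algebraMap (Polynomial B) R1), map_pow π, hπX,
        Ideal.Quotient.eq_zero_iff_mem.mpr (Ideal.mem_span_singleton_self _), map_zero]
    have hE : Spec.map κ ≫ j ≫ γ₁.left = Spec.map κ ≫ j ≫ γ₂.left := by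
      rw [← Category.assoc, ← Category.assoc]
      exact congrArg CommaMorphism.left (h T e ⟨n, hnil⟩)
    rw [hψ₁, hψ₂, ← Category.assoc, ← Category.assoc, cancel_mono, ← Spec.map_comp, ← Spec.map_comp] at hE
    have hr := DFunLike.congr_fun (congrArg CommRingCat.Hom.hom (Spec.map_injective hE)) r
    have hr' : Ideal.Quotient.mk (Ideal.span {PowerSeries.X ^ (n + 1)}) (π (ψ₁ r)) =
        Ideal.Quotient.mk _ (π (ψ₂ r)) := hr
    rw [Ideal.Quotient.eq, Ideal.mem_span_singleton, PowerSeries.X_pow_dvd_iff] at hr'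
    simpa [sub_eq_zero] using hr' n (Nat.lt_succ_self n)
  refine ⟨j.opensRange, ?_, ?_⟩
  · obtain ⟨x, hx⟩ : p₁ ∈ Set.range j₀ := by rw [hj₀]; exact hg'
    exact ⟨x, by rw [Scheme.Hom.comp_apply, hx, hp₁]⟩
  · rw [← cancel_epi j.isoOpensRange.hom, Scheme.Hom.isoOpensRange_hom_ι_assoc,
      Scheme.Hom.isoOpensRange_hom_ι_assoc, hψ₁, hψ₂, hψ]

end AttrPtLib
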