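import Groth.Prelude.Def_Magnet2
import Groth.Prelude.Def_CoactBr

/-!
# Points of diagonalizable monoid schemes as characters
-/

set_option autoImplicit false
set_option linter.style.haveILetI false
universe u

open CategoryTheory CategoryTheory.Limits MonoidalCategory CartesianMonoidalCategory MonObj
  AlgebraicGeometry Opposite
open scoped TensorProduct

noncomputable section

namespace AttrPtLib

/-- The initial coefficient ring. -/
abbrev Z : Type u := ULift.{u} ℤ

variable {S : Scheme.{u}} {M N : Type} [AddCommMonoid M] [AddCommMonoid N]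

/-- The morphism to the base `Spec ℤ`. -/
abbrev q (S : Scheme.{u}) : S ⟶ Spec (CommRingCat.of Z.{u}) := specULiftZIsTerminal.from S

/-- A point of the base change, as a point over `Spec ℤ`. -/
def adj {T : Over S} {A : Over (Spec (CommRingCat.of Z.{u}))} (g : T ⟶ Red.bc (q S) A) :
    (Over.map (q S)).obj T ⟶ A :=
  Over.homMk (g.left ≫ pullback.fst A.hom (q S)) (specULiftZIsTerminal.hom_ext _ _)

theorem adj_injective {T : Over S} {A : Over (Spec (CommRingCat.of Z.{u}))} {g h : T ⟶ Red.bc (q S) A}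
    (e : adj g = adj h) : g = h := by
  refine Over.OverMorphism.ext (pullback.hom_ext (congrArg CommaMorphism.left e) ?_)
  exact (Over.w g).trans (Over.w h).symm

theorem adj_comp {T T' : Over S} {A : Over (Spec (CommRingCat.of Z.{u}))} (u : T' ⟶ T)
    (g : T ⟶ Red.bc (q S) A) : adj (u ≫ g) = (Over.map (q S)).map u ≫ adj g := by
  refine Over.OverMorphism.ext ?_
  simp [adj]

theorem adj_map {T : Over S} {A B : Over (Spec (CommRingCat.of Z.{u}))} (g : T ⟶ Red.bc (q S) A) (f : A ⟶ B) :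
    adj (g ≫ (Over.pullback (q S)).map f) = adj g ≫ f := by
  refine Over.OverMorphism.ext ?_
  simp [adj, Over.comp_left]
  erw [pullback.lift_fst]

theorem adj_mul {T : Over S} {A : Over (Spec (CommRingCat.of Z.{u}))} [MonObj A]
    (g h : T ⟶ Red.bc (q S) A) : adj (g * h) = adj g * adj h := by
  have e : g * h = (lift g h ≫ Functor.LaxMonoidal.μ (Over.pullback (q S)) A A) ≫
      (Over.pullback (q S)).map μ[A] := (Hom.mul_def g h).trans (Category.assoc _ _ _).symm
  rw [e, adj_map, Hom.mul_def]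
  congr 1
  apply CartesianMonoidalCategory.hom_ext
  · rw [lift_fst, ← adj_map, Category.assoc, Functor.Monoidal.μ_fst, lift_fst]
  · rw [lift_snd, ← adj_map, Category.assoc, Functor.Monoidal.μ_snd, lift_snd]

theorem adj_one {T : Over S} {A : Over (Spec (CommRingCat.of Z.{u}))} [MonObj A] :
    adj (1 : T ⟶ Red.bc (q S) A) = 1 := by
  have e : (1 : T ⟶ Red.bc (q S) A) = (toUnit T ≫ Functor.LaxMonoidal.ε (Over.pullback (q S))) ≫
      (Over.pullback (q S)).map η[A] := (Hom.one_def).trans (Category.assoc _ _ _).symm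
  rw [e, adj_map, Hom.one_def, toUnit_unique (adj _) (toUnit _)]

theorem subsingleton_ringHom_Z (R : Type u) [CommRing R] : Subsingleton (Z.{u} →+* R) := by
  refine ⟨fun a b => RingHom.ext fun x => ?_⟩
  have h := Subsingleton.elim (a.comp ULift.ringEquiv.symm.toRingHom) (b.comp ULift.ringEquiv.symm.toRingHom)
  exact DFunLike.congr_fun h x.down

/-- Global functions as a `ℤ`-algebra. -/
@[reducible] def algZ (R : Type u) [CommRing R] : Algebra Z.{u} R :=
  ((Int.castRingHom R).comp ULift.ringEquiv.toRingHom).toAlgebra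

section Char

variable (M)

/-- The coordinate ring. -/
abbrev RM : Type u := MonoidAlgebra Z.{u} (Multiplicative M)

variable {M}

/-- The ring map of global functions of a point over `Spec ℤ`. -/
def ringPt {T : Over (Spec (CommRingCat.of Z.{u}))} (g : T ⟶ Magnet.AMon Z.{u} M) :
    RM.{u} M →+* Γ(T.left, ⊤) :=
  ((Scheme.ΓSpecIso (CommRingCat.of (RM.{u} M))).inv ≫ g.left.appTop).hom

theorem ringPt_spec {T : Over (Spec (CommRingCat.of Z.{u}))} (g : T ⟶ Magnet.AMon Z.{u} M) :
    T.left.toSpecΓ ≫ Spec.map (CommRingCat.ofHom (ringPt g)) = g.left := by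
  let g' : T.left ⟶ Spec (CommRingCat.of (RM.{u} M)) := g.left
  change T.left.toSpecΓ ≫ Spec.map ((Scheme.ΓSpecIso _).inv ≫ g'.appTop) = g'
  rw [Spec.map_comp]
  have := Scheme.toSpecΓ_naturality g'
  rw [← Category.assoc, ← this, Category.assoc, toSpecΓ_SpecMap_ΓSpecIso_inv]
  simp

theorem ringPt_injective {T : Over (Spec (CommRingCat.of Z.{u}))} {g h : T ⟶ Magnet.AMon Z.{u} M}
    (e : ringPt g = ringPt h) : g = h :=
  Over.OverMorphism.ext (by rw [← ringPt_spec g, ← ringPt_spec h, e])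

theorem ringPt_of {T : Over (Spec (CommRingCat.of Z.{u}))} (φ : RM.{u} M →+* Γ(T.left, ⊤))
    (g : T ⟶ Magnet.AMon Z.{u} M) (hg : g.left = T.left.toSpecΓ ≫ Spec.map (CommRingCat.ofHom φ)) :
    ringPt g = φ := by
  have h : (Scheme.ΓSpecIso (CommRingCat.of (RM.{u} M))).inv ≫
      (T.left.toSpecΓ ≫ Spec.map (CommRingCat.ofHom φ)).appTop = CommRingCat.ofHom φ := by
    rw [Scheme.Hom.comp_appTop, ← Scheme.ΓSpecIso_inv_naturality_assoc, Scheme.toSpecΓ_appTop,
      Iso.inv_hom_id, Category.comp_id]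
  rw [ringPt, hg]
  exact congrArg CommRingCat.Hom.hom h

theorem ringPt_comp_spec {M' : Type} [AddCommMonoid M'] {T : Over (Spec (CommRingCat.of Z.{u}))}
    (g : T ⟶ Magnet.AMon Z.{u} M) (φ : RM.{u} M' →+* RM.{u} M) (f : T ⟶ Magnet.AMon Z.{u} M')
    (hf : f.left = g.left ≫ Spec.map (CommRingCat.ofHom φ)) : ringPt f = (ringPt g).comp φ := by
  refine ringPt_of _ _ ?_
  rw [hf, CommRingCat.ofHom_comp, Spec.map_comp, ← Category.assoc]
  exact congrArg (· ≫ Spec.map (CommRingCat.ofHom φ)) (ringPt_spec g).symm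

theorem ringPt_mul {T : Over (Spec (CommRingCat.of Z.{u}))} (g h : T ⟶ Magnet.AMon Z.{u} M)
    (m : Multiplicative M) :
    ringPt (g * h) (MonoidAlgebra.single m 1) =
      ringPt g (MonoidAlgebra.single m 1) * ringPt h (MonoidAlgebra.single m 1) := by
  letI : Algebra Z.{u} Γ(T.left, ⊤) := algZ _
  have hc : ∀ φ : RM.{u} M →+* Γ(T.left, ⊤), ∀ r : Z.{u},
      φ (algebraMap _ _ r) = algebraMap Z.{u} Γ(T.left, ⊤) r := fun φ r =>
    DFunLike.congr_fun ((subsingleton_ringHom_Z _).elim (φ.comp (algebraMap _ _)) (algebraMap _ _)) r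
  haveI : IsScalarTower Z.{u} Z.{u} Γ(T.left, ⊤) := IsScalarTower.left _
  let φ : RM.{u} M →ₐ[Z.{u}] Γ(T.left, ⊤) := { ringPt g with commutes' := hc (ringPt g) }
  let ψ : RM.{u} M →ₐ[Z.{u}] Γ(T.left, ⊤) := { ringPt h with commutes' := hc (ringPt h) }
  let e : T ⟶ CoactBr.sp Z.{u} Γ(T.left, ⊤) := Over.homMk T.left.toSpecΓ (specULiftZIsTerminal.hom_ext _ _)
  have hg : g = e ≫ CoactBr.pt φ := Over.OverMorphism.ext (ringPt_spec g).symm
  have hh : h = e ≫ CoactBr.pt ψ := Over.OverMorphism.ext (ringPt_spec h).symm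
  have hgh : g * h = e ≫ (CoactBr.pt φ * CoactBr.pt ψ) := by rw [MonObj.comp_mul, ← hg, ← hh]
  rw [CoactBr.pt_mul_pt] at hgh
  have key : ∀ χ : RM.{u} M →ₐ[Z.{u}] Γ(T.left, ⊤), ringPt (e ≫ CoactBr.pt χ) = χ.toRingHom :=
    fun χ => ringPt_of _ _ rfl
  rw [hgh, key]
  simp only [AlgHom.toRingHom_eq_coe, RingHom.coe_coe, AlgHom.comp_apply, Bialgebra.comulAlgHom_apply,
    MonoidAlgebra.comul_single, Bialgebra.comul_one, Algebra.TensorProduct.one_def, TensorProduct.map_tmul,
    MonoidAlgebra.lsingle_apply, Algebra.TensorProduct.lift_tmul]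
  rfl

/-- The character of a point. -/
def chi {T : Over S} (g : T ⟶ Magnet.AMonS S M) (m : M) : Γ(T.left, ⊤) :=
  ringPt (adj g) (MonoidAlgebra.single (Multiplicative.ofAdd m) 1)

theorem chi_zero {T : Over S} (g : T ⟶ Magnet.AMonS S M) : chi g 0 = 1 :=
  (congrArg (ringPt (adj g)) MonoidAlgebra.one_def.symm).trans (map_one _)

theorem chi_add {T : Over S} (g : T ⟶ Magnet.AMonS S M) (a b : M) : chi g (a + b) = chi g a * chi g b := by
  rw [chi, chi, chi, ← map_mul, MonoidAlgebra.single_mul_single, ofAdd_add, _root_.one_mul]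

theorem chi_ext {T : Over S} {g h : T ⟶ Magnet.AMonS S M} (e : ∀ m, chi g m = chi h m) : g = h := by
  refine adj_injective (ringPt_injective (MonoidAlgebra.ringHom_ext (fun r => ?_) fun m => e m.toAdd))
  exact DFunLike.congr_fun ((subsingleton_ringHom_Z _).elim ((ringPt (adj g)).comp MonoidAlgebra.singleOneRingHom)
    ((ringPt (adj h)).comp MonoidAlgebra.singleOneRingHom)) r

theorem chi_comp {T T' : Over S} (u : T' ⟶ T) (g : T ⟶ Magnet.AMonS S M) (m : M) :
    chi (u ≫ g) m = u.left.appTop (chi g m) := by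
  rw [chi, adj_comp]
  rfl

theorem chi_mul {T : Over S} (g h : T ⟶ Magnet.AMonS S M) (m : M) : chi (g * h) m = chi g m * chi h m := by
  rw [chi, adj_mul]
  exact ringPt_mul (adj g) (adj h) _

theorem chi_map {T : Over S} (g : T ⟶ Magnet.AMonS S M) (f : N →+ M) (m : N) :
    chi (g ≫ Magnet.AMonS.map S f) m = chi g (f m) := by
  have e : adj (g ≫ Magnet.AMonS.map S f) = adj g ≫ Magnet.AMon.map Z.{u} f := adj_map g _
  rw [chi, e, ringPt_comp_spec (adj g)
    (MonoidAlgebra.mapDomainBialgHom Z.{u} (AddMonoidHom.toMultiplicative f)).toAlgHom.toRingHom (adj g ≫ Magnet.AMon.map Z.{u} f)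
    (by rw [Over.comp_left, Magnet.AMon.map_left]; rfl)]
  refine congrArg (ringPt (adj g)) ?_
  exact MonoidAlgebra.mapDomainBialgHom_single _ _ _

/-- The point with given adjunct. -/
def ofAdj {T : Over S} (g : (Over.map (q S)).obj T ⟶ Magnet.AMon Z.{u} M) : T ⟶ Magnet.AMonS S M :=
  Over.homMk (pullback.lift g.left T.hom (specULiftZIsTerminal.hom_ext _ _)) (pullback.lift_snd ..)

theorem adj_ofAdj {T : Over S} (g : (Over.map (q S)).obj T ⟶ Magnet.AMon Z.{u} M) : adj (ofAdj g) = g :=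
  Over.OverMorphism.ext (pullback.lift_fst ..)

/-- A point with a given character. -/
theorem exists_chi (T : Over S) (c : Multiplicative M →* Γ(T.left, ⊤)) :
    ∃ g : T ⟶ Magnet.AMonS S M, ∀ m, chi g m = c (Multiplicative.ofAdd m) := by
  let φ : RM.{u} M →+* Γ(T.left, ⊤) :=
    MonoidAlgebra.liftNCRingHom (((Int.castRingHom Γ(T.left, ⊤)).comp ULift.ringEquiv.toRingHom)) c
      fun _ _ => Commute.all _ _
  let g' : (Over.map (q S)).obj T ⟶ Magnet.AMon Z.{u} M :=
    Over.homMk (T.left.toSpecΓ ≫ Spec.map (CommRingCat.ofHom φ)) (specULiftZIsTerminal.hom_ext _ _)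
  refine ⟨ofAdj g', fun m => ?_⟩
  have h : ringPt g' = φ := ringPt_of (T := (Over.map (q S)).obj T) φ g' rfl
  rw [chi, adj_ofAdj, h]
  simp [φ, MonoidAlgebra.liftNCRingHom]

end Char

end AttrPtLib
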